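import Mathlib.CategoryTheory.Monoidal.Braided.Basic
import Mathlib.CategoryTheory.Monoidal.NaturalTransformation
import Mathlib.CategoryTheory.Groupoid

/-!
# The free Picard category on a symmetric monoidal groupoid

Objects are formal words in the objects of `A`, a unit, tensor products and formal inverses;
morphisms are formal composites of structural isomorphisms, the images of the morphisms of `A`,
the structure morphisms of the canonical lax functor and the cancellations `X ⊗ inv X ⟶ 1`.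
-/

set_option linter.unusedSectionVars false

universe v v' u u'

open CategoryTheory MonoidalCategory
open Functor.LaxMonoidal

namespace Groth.Agent.PicFree61

variable (A : Type u) [Category.{v} A] [MonoidalCategory A] [SymmetricCategory A]

/-- Formal words. -/
inductive Obj : Type u
  | of : A → Obj
  | one : Obj
  | tensor : Obj → Obj → Obj
  | inv : Obj → Obj

variable {A}

/-- Formal morphisms. -/
inductive Hom : Obj A → Obj A → Type (max u v)
  | id (X : Obj A) : Hom X X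
  | comp {X Y Z : Obj A} (f : Hom X Y) (g : Hom Y Z) : Hom X Z
  | sym {X Y : Obj A} (f : Hom X Y) : Hom Y X
  | tensor {W X Y Z : Obj A} (f : Hom W Y) (g : Hom X Z) : Hom (W.tensor X) (Y.tensor Z)
  | assoc (X Y Z : Obj A) : Hom ((X.tensor Y).tensor Z) (X.tensor (Y.tensor Z))
  | lu (X : Obj A) : Hom (Obj.one.tensor X) X
  | ru (X : Obj A) : Hom (X.tensor Obj.one) X
  | braid (X Y : Obj A) : Hom (X.tensor Y) (Y.tensor X)
  | can (X : Obj A) : Hom (X.tensor X.inv) Obj.one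
  | map {a b : A} (f : a ⟶ b) : Hom (Obj.of a) (Obj.of b)
  | mu (a b : A) : Hom ((Obj.of a).tensor (Obj.of b)) (Obj.of (a ⊗ b))
  | eps : Hom Obj.one (Obj.of (𝟙_ A))

/-- The relations between formal morphisms. -/
inductive Rel : ∀ {X Y : Obj A}, Hom X Y → Hom X Y → Prop
  | refl {X Y} (f : Hom X Y) : Rel f f
  | symm {X Y} {f g : Hom X Y} : Rel f g → Rel g f
  | trans {X Y} {f g h : Hom X Y} : Rel f g → Rel g h → Rel f h
  | comp {X Y Z} {f f' : Hom X Y} {g g' : Hom Y Z} : Rel f f' → Rel g g' → Rel (f.comp g) (f'.comp g')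
  | tensor {W X Y Z} {f f' : Hom W Y} {g g' : Hom X Z} :
      Rel f f' → Rel g g' → Rel (f.tensor g) (f'.tensor g')
  | id_comp {X Y} (f : Hom X Y) : Rel ((Hom.id X).comp f) f
  | comp_id {X Y} (f : Hom X Y) : Rel (f.comp (Hom.id Y)) f
  | comp_assoc {X Y Z W} (f : Hom X Y) (g : Hom Y Z) (h : Hom Z W) : Rel ((f.comp g).comp h) (f.comp (g.comp h))
  | sym_comp {X Y} (f : Hom X Y) : Rel ((Hom.sym f).comp f) (Hom.id Y)
  | comp_sym {X Y} (f : Hom X Y) : Rel (f.comp (Hom.sym f)) (Hom.id X)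
  | tensor_id (X Y : Obj A) : Rel ((Hom.id X).tensor (Hom.id Y)) (Hom.id _)
  | tensor_comp {X₁ Y₁ Z₁ X₂ Y₂ Z₂} (f₁ : Hom X₁ Y₁) (f₂ : Hom X₂ Y₂) (g₁ : Hom Y₁ Z₁) (g₂ : Hom Y₂ Z₂) :
      Rel ((f₁.tensor f₂).comp (g₁.tensor g₂)) ((f₁.comp g₁).tensor (f₂.comp g₂))
  | assoc_nat {X₁ X₂ X₃ Y₁ Y₂ Y₃} (f₁ : Hom X₁ Y₁) (f₂ : Hom X₂ Y₂) (f₃ : Hom X₃ Y₃) :
      Rel (((f₁.tensor f₂).tensor f₃).comp (Hom.assoc Y₁ Y₂ Y₃))
        ((Hom.assoc X₁ X₂ X₃).comp (f₁.tensor (f₂.tensor f₃)))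
  | lu_nat {X Y} (f : Hom X Y) : Rel (((Hom.id Obj.one).tensor f).comp (Hom.lu Y)) ((Hom.lu X).comp f)
  | ru_nat {X Y} (f : Hom X Y) : Rel ((f.tensor (Hom.id Obj.one)).comp (Hom.ru Y)) ((Hom.ru X).comp f)
  | pentagon (W X Y Z : Obj A) :
      Rel (((Hom.assoc W X Y).tensor (Hom.id Z)).comp
          ((Hom.assoc W (X.tensor Y) Z).comp ((Hom.id W).tensor (Hom.assoc X Y Z))))
        ((Hom.assoc (W.tensor X) Y Z).comp (Hom.assoc W X (Y.tensor Z)))
  | triangle (X Y : Obj A) :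
      Rel ((Hom.assoc X Obj.one Y).comp ((Hom.id X).tensor (Hom.lu Y))) ((Hom.ru X).tensor (Hom.id Y))
  | braid_nat {X₁ Y₁ X₂ Y₂} (f : Hom X₁ Y₁) (g : Hom X₂ Y₂) :
      Rel ((f.tensor g).comp (Hom.braid Y₁ Y₂)) ((Hom.braid X₁ X₂).comp (g.tensor f))
  | hexF (X Y Z : Obj A) :
      Rel ((Hom.assoc X Y Z).comp ((Hom.braid X (Y.tensor Z)).comp (Hom.assoc Y Z X)))
        (((Hom.braid X Y).tensor (Hom.id Z)).comp ((Hom.assoc Y X Z).comp ((Hom.id Y).tensor (Hom.braid X Z))))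
  | hexR (X Y Z : Obj A) :
      Rel ((Hom.sym (Hom.assoc X Y Z)).comp ((Hom.braid (X.tensor Y) Z).comp (Hom.sym (Hom.assoc Z X Y))))
        (((Hom.id X).tensor (Hom.braid Y Z)).comp
          ((Hom.sym (Hom.assoc X Z Y)).comp ((Hom.braid X Z).tensor (Hom.id Y))))
  | braid_sym (X Y : Obj A) : Rel ((Hom.braid X Y).comp (Hom.braid Y X)) (Hom.id _)
  | map_id (a : A) : Rel (Hom.map (𝟙 a)) (Hom.id _)
  | map_comp {a b c : A} (f : a ⟶ b) (g : b ⟶ c) : Rel (Hom.map (f ≫ g)) ((Hom.map f).comp (Hom.map g))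
  | mu_left {a b : A} (f : a ⟶ b) (c : A) :
      Rel (((Hom.map f).tensor (Hom.id (Obj.of c))).comp (Hom.mu b c)) ((Hom.mu a c).comp (Hom.map (f ▷ c)))
  | mu_right {a b : A} (c : A) (f : a ⟶ b) :
      Rel (((Hom.id (Obj.of c)).tensor (Hom.map f)).comp (Hom.mu c b)) ((Hom.mu c a).comp (Hom.map (c ◁ f)))
  | mu_assoc (a b c : A) :
      Rel (((Hom.mu a b).tensor (Hom.id (Obj.of c))).comp ((Hom.mu (a ⊗ b) c).comp (Hom.map (α_ a b c).hom)))
        ((Hom.assoc _ _ _).comp (((Hom.id (Obj.of a)).tensor (Hom.mu b c)).comp (Hom.mu a (b ⊗ c))))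
  | mu_lu (a : A) :
      Rel (Hom.lu (Obj.of a))
        ((Hom.eps.tensor (Hom.id (Obj.of a))).comp ((Hom.mu (𝟙_ A) a).comp (Hom.map (λ_ a).hom)))
  | mu_ru (a : A) :
      Rel (Hom.ru (Obj.of a))
        (((Hom.id (Obj.of a)).tensor Hom.eps).comp ((Hom.mu a (𝟙_ A)).comp (Hom.map (ρ_ a).hom)))
  | mu_braid (a b : A) :
      Rel ((Hom.mu a b).comp (Hom.map (β_ a b).hom)) ((Hom.braid _ _).comp (Hom.mu b a))

instance setoidHom (X Y : Obj A) : Setoid (Hom X Y) :=
  ⟨Rel, ⟨Rel.refl, Rel.symm, Rel.trans⟩⟩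

instance category : Category.{max u v} (Obj A) where
  Hom X Y := Quotient (setoidHom X Y)
  id X := ⟦Hom.id X⟧
  comp := Quotient.map₂ Hom.comp (fun _ _ hf _ _ hg => Rel.comp hf hg)
  id_comp := by rintro X Y ⟨f⟩; exact Quotient.sound (Rel.id_comp f)
  comp_id := by rintro X Y ⟨f⟩; exact Quotient.sound (Rel.comp_id f)
  assoc := by rintro W X Y Z ⟨f⟩ ⟨g⟩ ⟨h⟩; exact Quotient.sound (Rel.comp_assoc f g h)

/-- The class of a formal morphism. -/
abbrev mk {X Y : Obj A} (f : Hom X Y) : X ⟶ Y := Quotient.mk _ f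

/-- A formal morphism and its formal inverse. -/
def symIso {X Y : Obj A} (f : Hom X Y) : X ≅ Y :=
  ⟨mk f, mk f.sym, Quotient.sound (Rel.comp_sym f), Quotient.sound (Rel.sym_comp f)⟩

instance isGroupoid : IsGroupoid (Obj A) where
  all_isIso {X Y} f := by
    induction f using Quotient.inductionOn with
    | _ f => exact (symIso f).isIso_hom

instance monoidalStruct : MonoidalCategoryStruct (Obj A) where
  tensorObj := Obj.tensor
  tensorHom := Quotient.map₂ Hom.tensor (fun _ _ hf _ _ hg => Rel.tensor hf hg)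
  whiskerLeft X _ _ f := Quotient.map₂ Hom.tensor (fun _ _ hf _ _ hg => Rel.tensor hf hg) (mk (Hom.id X)) f
  whiskerRight f Y := Quotient.map₂ Hom.tensor (fun _ _ hf _ _ hg => Rel.tensor hf hg) f (mk (Hom.id Y))
  tensorUnit := Obj.one
  associator X Y Z := symIso (Hom.assoc X Y Z)
  leftUnitor X := symIso (Hom.lu X)
  rightUnitor X := symIso (Hom.ru X)

instance monoidal : MonoidalCategory (Obj A) :=
  .ofTensorHom
    (id_tensorHom_id := fun X Y => Quotient.sound (Rel.tensor_id X Y))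
    (id_tensorHom := fun _ _ _ _ => rfl)
    (tensorHom_id := fun _ _ => rfl)
    (tensorHom_comp_tensorHom := by
      intro X₁ Y₁ Z₁ X₂ Y₂ Z₂
      rintro ⟨f₁⟩ ⟨f₂⟩ ⟨g₁⟩ ⟨g₂⟩
      exact Quotient.sound (Rel.tensor_comp f₁ f₂ g₁ g₂))
    (associator_naturality := by
      intro X₁ X₂ X₃ Y₁ Y₂ Y₃
      rintro ⟨f₁⟩ ⟨f₂⟩ ⟨f₃⟩
      exact Quotient.sound (Rel.assoc_nat f₁ f₂ f₃))
    (leftUnitor_naturality := by
      intro X Y
      rintro ⟨f⟩
      exact Quotient.sound (Rel.lu_nat f))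
    (rightUnitor_naturality := by
      intro X Y
      rintro ⟨f⟩
      exact Quotient.sound (Rel.ru_nat f))
    (pentagon := fun W X Y Z => Quotient.sound (Rel.pentagon W X Y Z))
    (triangle := fun X Y => Quotient.sound (Rel.triangle X Y))

instance symmetric : SymmetricCategory (Obj A) where
  braiding X Y := symIso (Hom.braid X Y)
  braiding_naturality_right X {Y Z} := by
    rintro ⟨f⟩
    exact Quotient.sound (Rel.braid_nat (Hom.id X) f)
  braiding_naturality_left {X Y} := by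
    rintro ⟨f⟩ Z
    exact Quotient.sound (Rel.braid_nat f (Hom.id Z))
  hexagon_forward X Y Z := Quotient.sound (Rel.hexF X Y Z)
  hexagon_reverse X Y Z := Quotient.sound (Rel.hexR X Y Z)
  symmetry X Y := Quotient.sound (Rel.braid_sym X Y)

variable (A) in
/-- The canonical functor. -/
def incl : A ⥤ Obj A where
  obj := Obj.of
  map f := mk (Hom.map f)
  map_id a := Quotient.sound (Rel.map_id a)
  map_comp f g := Quotient.sound (Rel.map_comp f g)

instance inclLaxBraided : (incl A).LaxBraided where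
  ε := mk Hom.eps
  μ a b := mk (Hom.mu a b)
  μ_natural_left f c := Quotient.sound (Rel.mu_left f c)
  μ_natural_right c f := Quotient.sound (Rel.mu_right c f)
  associativity a b c := Quotient.sound (Rel.mu_assoc a b c)
  left_unitality a := Quotient.sound (Rel.mu_lu a)
  right_unitality a := Quotient.sound (Rel.mu_ru a)
  braided a b := Quotient.sound (Rel.mu_braid a b)

theorem isEquivalence_tensorLeft {C : Type*} [Category C] [MonoidalCategory C] {X X' : C}
    (e : X ⊗ X' ≅ 𝟙_ C) (e' : X' ⊗ X ≅ 𝟙_ C) : (tensorLeft X).IsEquivalence :=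
  (CategoryTheory.Equivalence.mk (tensorLeft X) (tensorLeft X')
    ((leftUnitorNatIso C).symm ≪≫ ((tensoringLeft C).mapIso e').symm ≪≫ tensorLeftTensor X' X)
    ((tensorLeftTensor X X').symm ≪≫ (tensoringLeft C).mapIso e ≪≫ leftUnitorNatIso C)).isEquivalence_functor

/-- Tensoring with any object is an equivalence. -/
theorem tensor_isEquivalence (X : Obj A) : (tensorLeft X).IsEquivalence ∧ (tensorRight X).IsEquivalence := by
  have h := isEquivalence_tensorLeft (X' := X.inv) (symIso (Hom.can X))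
    ((β_ X.inv X) ≪≫ symIso (Hom.can X))
  haveI := h
  exact ⟨h, Functor.isEquivalence_of_iso (BraidedCategory.tensorLeftIsoTensorRight X)⟩

end Groth.Agent.PicFree61
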