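import Groth.Agent.PicFree61.Basic

/-!
# The universal property of the free Picard category
-/

set_option linter.unusedSectionVars false
set_option linter.style.haveILetI false
set_option maxHeartbeats 1000000
set_option backward.isDefEq.respectTransparency false
set_option backward.isDefEq.respectTransparency.types false

universe v v' u u'

open CategoryTheory MonoidalCategory
open Functor.LaxMonoidal

noncomputable section

namespace Groth.Agent.PicFree61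

variable {A : Type u} [Category.{v} A] [MonoidalCategory A] [SymmetricCategory A]
  {P : Type u'} [Category.{v'} P] [MonoidalCategory P] [SymmetricCategory P] [IsGroupoid P]

section Lift

variable (hP : ∀ X : P, (tensorLeft X).IsEquivalence) (Φ : A ⥤ P) [Φ.LaxBraided]

/-- A chosen inverse of an object. -/
def dual (X : P) : P := haveI := hP X; (tensorLeft X).objPreimage (𝟙_ P)

/-- The cancellation. -/
def dualIso (X : P) : X ⊗ dual hP X ≅ 𝟙_ P := haveI := hP X; (tensorLeft X).objObjPreimageIso (𝟙_ P)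

/-- Evaluation of formal words. -/
def obj : Obj A → P
  | .of a => Φ.obj a
  | .one => 𝟙_ P
  | .tensor X Y => obj X ⊗ obj Y
  | .inv X => dual hP (obj X)

/-- Evaluation of formal morphisms. -/
def mapAux : ∀ {X Y : Obj A}, Hom X Y → (obj hP Φ X ⟶ obj hP Φ Y)
  | _, _, .id _ => 𝟙 _
  | _, _, .comp f g => mapAux f ≫ mapAux g
  | _, _, .sym f => CategoryTheory.inv (mapAux f)
  | _, _, .tensor f g => mapAux f ⊗ₘ mapAux g
  | _, _, .assoc _ _ _ => (α_ _ _ _).hom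
  | _, _, .lu _ => (λ_ _).hom
  | _, _, .ru _ => (ρ_ _).hom
  | _, _, .braid _ _ => (β_ _ _).hom
  | _, _, .can _ => (dualIso hP _).hom
  | _, _, .map f => Φ.map f
  | _, _, .mu a b => μ Φ a b
  | _, _, .eps => ε Φ

theorem mapAux_rel {X Y : Obj A} {f g : Hom X Y} (h : Rel f g) : mapAux hP Φ f = mapAux hP Φ g := by
  induction h with
  | refl => rfl
  | symm _ ih => exact ih.symm
  | trans _ _ ih ih' => exact ih.trans ih'
  | comp _ _ ih ih' => simp only [mapAux, ih, ih']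
  | tensor _ _ ih ih' => exact congrArg₂ (fun a b => a ⊗ₘ b) ih ih'
  | id_comp => simp [mapAux]
  | comp_id => simp [mapAux]
  | comp_assoc => simp [mapAux]
  | sym_comp => simp [mapAux]
  | comp_sym => simp [mapAux]
  | tensor_id => simp [mapAux, obj]
  | tensor_comp => exact tensorHom_comp_tensorHom _ _ _ _
  | assoc_nat => exact associator_naturality _ _ _
  | lu_nat => simp [mapAux, obj]
  | ru_nat => simp [mapAux, obj]
  | pentagon => simp [mapAux, obj]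
  | triangle => simp [mapAux, obj]
  | braid_nat => simp [mapAux, obj, tensorHom_def, BraidedCategory.braiding_naturality_left_assoc,
      whisker_exchange]
  | hexF => simp [mapAux, obj, BraidedCategory.hexagon_forward]
  | hexR => simp [mapAux, obj, BraidedCategory.hexagon_reverse, IsIso.Iso.inv_hom]
  | braid_sym => simp [mapAux, obj]
  | map_id => simp [mapAux, obj]
  | map_comp => simp [mapAux, obj]
  | mu_left => simp [mapAux, obj]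
  | mu_right => simp [mapAux, obj]
  | mu_assoc => simp [mapAux, obj]
  | mu_lu a => simpa [mapAux, obj] using left_unitality Φ a
  | mu_ru a => simpa [mapAux, obj] using right_unitality Φ a
  | mu_braid a b => simpa [mapAux, obj] using Functor.LaxBraided.braided (F := Φ) a b

/-- The extension of a lax braided functor. -/
def lift : Obj A ⥤ P where
  obj := obj hP Φ
  map := Quotient.lift (mapAux hP Φ) fun _ _ h => mapAux_rel hP Φ h
  map_id _ := rfl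
  map_comp := by rintro X Y Z ⟨f⟩ ⟨g⟩; rfl

instance liftLaxBraided : (lift hP Φ).LaxBraided where
  ε := 𝟙 _
  μ _ _ := 𝟙 _
  μ_natural_left := by
    rintro X Y ⟨f⟩ Z
    show mapAux hP Φ f ▷ obj hP Φ Z ≫ 𝟙 _ = 𝟙 _ ≫ (mapAux hP Φ f ⊗ₘ 𝟙 _)
    simp
  μ_natural_right := by
    rintro X Y Z ⟨f⟩
    show obj hP Φ Z ◁ mapAux hP Φ f ≫ 𝟙 _ = 𝟙 _ ≫ (𝟙 _ ⊗ₘ mapAux hP Φ f)
    simp
  associativity X Y Z := by
    show 𝟙 (obj hP Φ X ⊗ obj hP Φ Y) ▷ obj hP Φ Z ≫ 𝟙 _ ≫ (α_ _ _ _).hom =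
      (α_ _ _ _).hom ≫ obj hP Φ X ◁ 𝟙 (obj hP Φ Y ⊗ obj hP Φ Z) ≫ 𝟙 _
    simp
  left_unitality X := by
    show (λ_ (obj hP Φ X)).hom = 𝟙 (𝟙_ P) ▷ obj hP Φ X ≫ 𝟙 _ ≫ (λ_ _).hom
    simp
  right_unitality X := by
    show (ρ_ (obj hP Φ X)).hom = obj hP Φ X ◁ 𝟙 (𝟙_ P) ≫ 𝟙 _ ≫ (ρ_ _).hom
    simp
  braided X Y := by
    show 𝟙 (obj hP Φ X ⊗ obj hP Φ Y) ≫ (β_ _ _).hom = (β_ _ _).hom ≫ 𝟙 _
    simp

/-- The extension restricts to the functor. -/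
def liftIso : incl A ⋙ lift hP Φ ≅ Φ := NatIso.ofComponents (fun a => Iso.refl (Φ.obj a)) fun f => by
  show Φ.map f ≫ 𝟙 _ = 𝟙 _ ≫ Φ.map f
  simp

theorem liftIso_isMonoidal : NatTrans.IsMonoidal (liftIso hP Φ).hom where
  unit := by
    show (𝟙 (𝟙_ P) ≫ ε Φ) ≫ 𝟙 _ = ε Φ
    simp
  tensor a b := by
    show (𝟙 (Φ.obj a ⊗ Φ.obj b) ≫ μ Φ a b) ≫ 𝟙 _ = (𝟙 (Φ.obj a) ⊗ₘ 𝟙 (Φ.obj b)) ≫ μ Φ a b
    simp

end Lift

section NatTrans

variable (hP : ∀ X : P, (tensorLeft X).IsEquivalence) (Ψ Ψ' : Obj A ⥤ P) [Ψ.LaxBraided] [Ψ'.LaxBraided]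
  (τ : incl A ⋙ Ψ ⟶ incl A ⋙ Ψ')

/-- The value of the extension of a transformation on a formal inverse. -/
def invApp (X : Obj A) (θX : Ψ.obj X ⟶ Ψ'.obj X) : Ψ.obj X.inv ⟶ Ψ'.obj X.inv :=
  haveI := hP (Ψ'.obj X)
  (tensorLeft (Ψ'.obj X)).preimage (CategoryTheory.inv (θX ▷ Ψ.obj X.inv) ≫ μ Ψ X X.inv ≫
    Ψ.map (mk (Hom.can X)) ≫ (CategoryTheory.inv (ε Ψ) ≫ ε Ψ') ≫
    CategoryTheory.inv (Ψ'.map (mk (Hom.can X))) ≫ CategoryTheory.inv (μ Ψ' X X.inv))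

/-- The extension of a transformation. -/
def app : ∀ X : Obj A, Ψ.obj X ⟶ Ψ'.obj X
  | .of a => τ.app a
  | .one => CategoryTheory.inv (ε Ψ) ≫ ε Ψ'
  | .tensor X Y => CategoryTheory.inv (μ Ψ X Y) ≫ (app X ⊗ₘ app Y) ≫ μ Ψ' X Y
  | .inv X => invApp hP Ψ Ψ' X (app X)

theorem app_can (X : Obj A) : Ψ.map (mk (Hom.can X)) ≫ app hP Ψ Ψ' τ Obj.one =
    app hP Ψ Ψ' τ (X.tensor X.inv) ≫ Ψ'.map (mk (Hom.can X)) := by
  haveI := hP (Ψ'.obj X)
  show _ = (CategoryTheory.inv (μ Ψ X X.inv) ≫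
    (app hP Ψ Ψ' τ X ⊗ₘ invApp hP Ψ Ψ' X (app hP Ψ Ψ' τ X)) ≫ μ Ψ' X X.inv) ≫ _
  have h : Ψ'.obj X ◁ invApp hP Ψ Ψ' X (app hP Ψ Ψ' τ X) = _ := (tensorLeft (Ψ'.obj X)).map_preimage _
  rw [tensorHom_def, h]
  simp only [app, Category.assoc, IsIso.hom_inv_id_assoc, IsIso.inv_hom_id_assoc]
  erw [IsIso.inv_hom_id, Category.comp_id]
  rfl

variable [NatTrans.IsMonoidal τ]

theorem app_naturality {X Y : Obj A} (f : Hom X Y) :
    Ψ.map (mk f) ≫ app hP Ψ Ψ' τ Y = app hP Ψ Ψ' τ X ≫ Ψ'.map (mk f) := by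
  induction f with
  | id X =>
    show Ψ.map (𝟙 X) ≫ _ = _ ≫ Ψ'.map (𝟙 X)
    simp
  | @comp X Y Z f g hf hg =>
    show Ψ.map (mk f ≫ mk g) ≫ _ = _ ≫ Ψ'.map (mk f ≫ mk g)
    rw [Functor.map_comp, Functor.map_comp, Category.assoc, hg, reassoc_of% hf]
  | @sym X Y f hf =>
    show Ψ.map (symIso f).inv ≫ _ = _ ≫ Ψ'.map (symIso f).inv
    have h1 : Ψ.map (symIso f).hom ≫ app hP Ψ Ψ' τ Y = app hP Ψ Ψ' τ X ≫ Ψ'.map (symIso f).hom := hf
    rw [← cancel_epi (Ψ.map (symIso f).hom), ← Functor.map_comp_assoc, Iso.hom_inv_id, Functor.map_id,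
      Category.id_comp, reassoc_of% h1, ← Functor.map_comp, Iso.hom_inv_id, Functor.map_id, Category.comp_id]
  | @tensor W X Y Z f g hf hg =>
    show Ψ.map (mk f ⊗ₘ mk g) ≫ app hP Ψ Ψ' τ (Y.tensor Z) = app hP Ψ Ψ' τ (W.tensor X) ≫ Ψ'.map (mk f ⊗ₘ mk g)
    simp only [app, Category.assoc]
    rw [← cancel_epi (μ Ψ W X), ← μ_natural_assoc, IsIso.hom_inv_id_assoc, IsIso.hom_inv_id_assoc,
      tensorHom_comp_tensorHom_assoc, hf, hg, ← tensorHom_comp_tensorHom_assoc, μ_natural]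
  | assoc X Y Z =>
    show Ψ.map (α_ X Y Z).hom ≫ _ = _ ≫ Ψ'.map (α_ X Y Z).hom
    rw [← cancel_epi (μ Ψ X Y ▷ Ψ.obj Z ≫ μ Ψ (X ⊗ Y) Z)]
    have h1 := associativity Ψ X Y Z
    have h2 := associativity Ψ' X Y Z
    simp only [Category.assoc] at h1 h2 ⊢
    rw [reassoc_of% h1]
    show (α_ _ _ _).hom ≫ Ψ.obj X ◁ μ Ψ Y Z ≫ μ Ψ X (Y ⊗ Z) ≫ app hP Ψ Ψ' τ (X.tensor (Y.tensor Z)) =
      μ Ψ X Y ▷ Ψ.obj Z ≫ μ Ψ (X ⊗ Y) Z ≫ app hP Ψ Ψ' τ ((X.tensor Y).tensor Z) ≫ Ψ'.map (α_ X Y Z).hom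
    simp only [app]
    erw [IsIso.hom_inv_id_assoc]
    simp only [Category.assoc]
    erw [IsIso.hom_inv_id_assoc]
    rw [← id_tensorHom, tensorHom_comp_tensorHom_assoc, Category.id_comp]
    erw [IsIso.hom_inv_id_assoc]
    rw [← tensorHom_id]
    erw [tensorHom_comp_tensorHom_assoc]
    rw [Category.id_comp]
    erw [IsIso.hom_inv_id_assoc]
    rw [← Category.comp_id (app hP Ψ Ψ' τ X), ← Category.comp_id (app hP Ψ Ψ' τ Z),
      ← tensorHom_comp_tensorHom_assoc, ← tensorHom_comp_tensorHom_assoc]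
    simp only [Category.comp_id, id_tensorHom, tensorHom_id]
    rw [← associator_naturality_assoc]
    erw [h2]
    simp
    rfl
  | lu X =>
    show Ψ.map (λ_ X).hom ≫ _ = _ ≫ Ψ'.map (λ_ X).hom
    rw [← cancel_epi (ε Ψ ▷ Ψ.obj X ≫ μ Ψ (𝟙_ (Obj A)) X)]
    simp only [Category.assoc]
    rw [← left_unitality_assoc]
    show _ = ε Ψ ▷ Ψ.obj X ≫ μ Ψ _ X ≫ app hP Ψ Ψ' τ (Obj.one.tensor X) ≫ Ψ'.map (λ_ X).hom
    simp only [app, Category.assoc]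
    erw [IsIso.hom_inv_id_assoc]
    rw [← tensorHom_id, tensorHom_comp_tensorHom_assoc, Category.id_comp]
    erw [IsIso.hom_inv_id_assoc]
    rw [tensorHom_def', Category.assoc, ← leftUnitor_naturality, left_unitality Ψ' X]
    rfl
  | ru X =>
    show Ψ.map (ρ_ X).hom ≫ _ = _ ≫ Ψ'.map (ρ_ X).hom
    rw [← cancel_epi (Ψ.obj X ◁ ε Ψ ≫ μ Ψ X (𝟙_ (Obj A)))]
    simp only [Category.assoc]
    rw [← right_unitality_assoc]
    show _ = Ψ.obj X ◁ ε Ψ ≫ μ Ψ X _ ≫ app hP Ψ Ψ' τ (X.tensor Obj.one) ≫ Ψ'.map (ρ_ X).hom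
    simp only [app, Category.assoc]
    erw [IsIso.hom_inv_id_assoc]
    rw [← id_tensorHom, tensorHom_comp_tensorHom_assoc, Category.id_comp]
    erw [IsIso.hom_inv_id_assoc]
    rw [tensorHom_def, Category.assoc, ← rightUnitor_naturality, right_unitality Ψ' X]
    rfl
  | braid X Y =>
    show Ψ.map (β_ X Y).hom ≫ _ = _ ≫ Ψ'.map (β_ X Y).hom
    rw [← cancel_epi (μ Ψ X Y), Functor.LaxBraided.braided_assoc]
    show (β_ _ _).hom ≫ μ Ψ Y X ≫ app hP Ψ Ψ' τ (Y.tensor X) = μ Ψ X Y ≫ app hP Ψ Ψ' τ (X.tensor Y) ≫ _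
    simp only [app, Category.assoc]
    erw [IsIso.hom_inv_id_assoc, IsIso.hom_inv_id_assoc]
    rw [← reassoc_of% (BraidedCategory.braiding_naturality (app hP Ψ Ψ' τ X) (app hP Ψ Ψ' τ Y))]
    erw [Functor.LaxBraided.braided]
  | can X => exact app_can hP Ψ Ψ' τ X
  | map f => exact τ.naturality f
  | mu a b =>
    have h := NatTrans.IsMonoidal.tensor (τ := τ) a b
    change (μ Ψ _ _ ≫ Ψ.map (mk (Hom.mu a b))) ≫ τ.app (a ⊗ b) =
      (τ.app a ⊗ₘ τ.app b) ≫ μ Ψ' _ _ ≫ Ψ'.map (mk (Hom.mu a b)) at h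
    show Ψ.map (mk (Hom.mu a b)) ≫ τ.app (a ⊗ b) =
      (CategoryTheory.inv (μ Ψ _ _) ≫ (τ.app a ⊗ₘ τ.app b) ≫ μ Ψ' _ _) ≫ Ψ'.map (mk (Hom.mu a b))
    simp only [Category.assoc] at h ⊢
    refine (IsIso.eq_inv_comp _).2 ?_
    exact h
  | eps =>
    have h := NatTrans.IsMonoidal.unit (τ := τ)
    change (ε Ψ ≫ Ψ.map (mk Hom.eps)) ≫ τ.app (𝟙_ A) = ε Ψ' ≫ Ψ'.map (mk Hom.eps) at h
    show Ψ.map (mk Hom.eps) ≫ τ.app (𝟙_ A) = (CategoryTheory.inv (ε Ψ) ≫ ε Ψ') ≫ Ψ'.map (mk Hom.eps)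
    simp only [Category.assoc] at h ⊢
    refine (IsIso.eq_inv_comp _).2 ?_
    exact h

/-- The extension of a transformation, as a natural transformation. -/
def ext : Ψ ⟶ Ψ' where
  app := app hP Ψ Ψ' τ
  naturality := by rintro X Y ⟨f⟩; exact app_naturality hP Ψ Ψ' τ f

include hP in
/-- Monoidal transformations extend uniquely. -/
theorem existsUnique_ext : ∃! θ : Ψ ⟶ Ψ', NatTrans.IsMonoidal θ ∧ Functor.whiskerLeft (incl A) θ = τ := by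
  refine ⟨ext hP Ψ Ψ' τ, ⟨⟨?_, fun X Y => ?_⟩, ?_⟩, fun θ ⟨hm, hθ⟩ => ?_⟩
  · show ε Ψ ≫ CategoryTheory.inv (ε Ψ) ≫ ε Ψ' = ε Ψ'
    rw [IsIso.hom_inv_id_assoc]
  · show μ Ψ X Y ≫ CategoryTheory.inv (μ Ψ X Y) ≫ (_ ⊗ₘ _) ≫ μ Ψ' X Y = (_ ⊗ₘ _) ≫ μ Ψ' X Y
    rw [IsIso.hom_inv_id_assoc]
    rfl
  · ext a; rfl
  · ext X
    show θ.app X = app hP Ψ Ψ' τ X
    induction X with
    | of a =>
      show θ.app ((incl A).obj a) = τ.app a
      rw [← hθ]; rfl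
    | one =>
      show _ = CategoryTheory.inv (ε Ψ) ≫ ε Ψ'
      rw [IsIso.eq_inv_comp]
      exact hm.unit
    | tensor X Y hX hY =>
      show _ = CategoryTheory.inv (μ Ψ X Y) ≫ (_ ⊗ₘ _) ≫ μ Ψ' X Y
      rw [IsIso.eq_inv_comp, ← hX, ← hY]
      exact hm.tensor X Y
    | inv X hX =>
      haveI := hP (Ψ'.obj X)
      show _ = invApp hP Ψ Ψ' X (app hP Ψ Ψ' τ X)
      apply (tensorLeft (Ψ'.obj X)).map_injective
      rw [invApp, Functor.map_preimage]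
      show Ψ'.obj X ◁ θ.app X.inv = _
      have h := θ.naturality (mk (Hom.can X))
      have ht : μ Ψ X X.inv ≫ θ.app (X.tensor X.inv) = (θ.app X ⊗ₘ θ.app X.inv) ≫ μ Ψ' X X.inv := hm.tensor X X.inv
      have hu : ε Ψ ≫ θ.app Obj.one = ε Ψ' := hm.unit
      rw [← hu, IsIso.inv_hom_id_assoc, ← hX]
      erw [reassoc_of% h, reassoc_of% ht, IsIso.hom_inv_id_assoc, IsIso.hom_inv_id, Category.comp_id, tensorHom_def, IsIso.inv_hom_id_assoc]

end NatTrans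

end Groth.Agent.PicFree61
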